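import Groth.Agent.HLVTLib.Connected
import Groth.Agent.S11668
import Groth.Agent.S0326
import Mathlib.RingTheory.Ideal.KrullsHeightTheorem

/-! Connectedness of punctured spectra of quotients of complete local domains by few elements. -/

set_option autoImplicit false
universe u

open IsLocalRing TopologicalSpace

noncomputable section

namespace Groth.Agent.PuncConnLib

/-- The punctured spectrum is connected. -/
def PConn (R : Type u) [CommRing R] [IsLocalRing R] : Prop :=
  IsConnected ({closedPoint R}ᶜ : Set (PrimeSpectrum R))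

theorem exists_ne_closedPoint {R : Type u} [CommRing R] [IsLocalRing R] (h : PConn R) :
    ∃ q : PrimeSpectrum R, q ≠ closedPoint R := h.nonempty

/-- Connectedness of the punctured spectrum descends along a map with trivial closed fibre which is
surjective on spectra. -/
theorem PConn.of_hom {R C : Type u} [CommRing R] [IsLocalRing R] [CommRing C] [IsLocalRing C]
    (g : R →+* C) [IsLocalHom g] (hsurj : Function.Surjective (PrimeSpectrum.comap g))
    (hmax : maximalIdeal C ≤ (maximalIdeal R).map g) (h : PConn C) : PConn R := by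
  have him : PrimeSpectrum.comap g '' ({closedPoint C}ᶜ) = {closedPoint R}ᶜ := by
    ext p
    refine ⟨?_, fun hp => ?_⟩
    · rintro ⟨q, hq, rfl⟩ heq
      refine hq (PrimeSpectrum.ext (le_antisymm (le_maximalIdeal q.2.ne_top) (hmax.trans ?_)))
      refine Ideal.map_le_iff_le_comap.2 ?_
      exact ge_of_eq (congrArg PrimeSpectrum.asIdeal heq)
    · obtain ⟨q, rfl⟩ := hsurj p
      refine ⟨q, ?_, rfl⟩
      rintro rfl
      exact hp (IsLocalRing.comap_closedPoint g)
  rw [PConn, ← him]
  exact h.image _ (PrimeSpectrum.continuous_comap g).continuousOn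

/-- The punctured zero locus of few elements in a complete local domain is connected. -/
theorem isConnected_zeroLocus_diff (S : Type u) [CommRing S] [IsDomain S] [IsNoetherianRing S] [IsLocalRing S]
    [IsAdicComplete (maximalIdeal S) S] {d : ℕ} (hd : ringKrullDim S = d) (s : Finset S)
    (hI : Ideal.span (s : Set S) ≠ ⊤) (hs : s.card + 2 ≤ d) :
    IsConnected (PrimeSpectrum.zeroLocus (s : Set S) \ {closedPoint S}) := by
  classical
  let I := Ideal.span (s : Set S)
  have hzl : PrimeSpectrum.zeroLocus (s : Set S) = PrimeSpectrum.zeroLocus (I : Set S) :=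
    (PrimeSpectrum.zeroLocus_span _).symm
  have hcp : closedPoint S ∈ PrimeSpectrum.zeroLocus (I : Set S) := le_maximalIdeal hI
  have hne : (PrimeSpectrum.zeroLocus (s : Set S) \ {closedPoint S}).Nonempty := by
    by_contra hcon
    rw [Set.not_nonempty_iff_eq_empty, Set.sdiff_eq_empty, hzl] at hcon
    have hmin : maximalIdeal S ∈ I.minimalPrimes := by
      refine ⟨⟨(maximalIdeal.isMaximal S).isPrime, le_maximalIdeal hI⟩, fun q hq _ => ?_⟩
      exact ge_of_eq (congrArg PrimeSpectrum.asIdeal (Set.mem_singleton_iff.1 (hcon (a := ⟨q, hq.1⟩) hq.2)))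
    have h1 := Ideal.height_le_card_of_mem_minimalPrimes_span_finset hmin
    have h2 := maximalIdeal_height_eq_ringKrullDim (R := S)
    rw [hd] at h2
    have h3 : (d : WithBot ℕ∞) ≤ (s.card : ℕ) := by
      rw [← h2]
      exact_mod_cast h1
    have : d ≤ s.card := by exact_mod_cast h3
    omega
  refine ⟨hne, isPreconnected_closed_iff.2 fun t t' ht ht' hcov ⟨x, hxT, hxt⟩ ⟨y, hyT, hyt⟩ => ?_⟩
  by_contra hcon
  rw [hzl] at hcov hxT hyT hcon
  set Z := PrimeSpectrum.zeroLocus (I : Set S) with hZ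
  let a := PrimeSpectrum.vanishingIdeal (t ∩ Z)
  let b := PrimeSpectrum.vanishingIdeal (t' ∩ Z)
  have hVa : PrimeSpectrum.zeroLocus (a : Set S) = t ∩ Z := by
    rw [PrimeSpectrum.zeroLocus_vanishingIdeal_eq_closure]
    exact (ht.inter (PrimeSpectrum.isClosed_zeroLocus _)).closure_eq
  have hVb : PrimeSpectrum.zeroLocus (b : Set S) = t' ∩ Z := by
    rw [PrimeSpectrum.zeroLocus_vanishingIdeal_eq_closure]
    exact (ht'.inter (PrimeSpectrum.isClosed_zeroLocus _)).closure_eq
  have hxa : a ≤ x.asIdeal := (hVa.symm ▸ ⟨hxt, hxT.1⟩ : x ∈ PrimeSpectrum.zeroLocus (a : Set S))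
  have hyb : b ≤ y.asIdeal := (hVb.symm ▸ ⟨hyt, hyT.1⟩ : y ∈ PrimeSpectrum.zeroLocus (b : Set S))
  have ha : a ≠ ⊤ := fun h => x.2.ne_top (top_le_iff.1 (h ▸ hxa))
  have hb : b ≠ ⊤ := fun h => y.2.ne_top (top_le_iff.1 (h ▸ hyb))
  have hmt : closedPoint S ∈ t := by
    have : closedPoint S ∈ PrimeSpectrum.zeroLocus (a : Set S) := le_maximalIdeal ha
    rw [hVa] at this
    exact this.1
  have hunion : PrimeSpectrum.zeroLocus ((a ⊓ b : Ideal S) : Set S) = Z := by
    rw [PrimeSpectrum.zeroLocus_inf, hVa, hVb]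
    refine subset_antisymm (Set.union_subset Set.inter_subset_right Set.inter_subset_right) fun z hz => ?_
    by_cases hzm : z = closedPoint S
    · exact Or.inl ⟨hzm ▸ hmt, hz⟩
    · exact (hcov ⟨hz, hzm⟩).imp (fun h => ⟨h, hz⟩) (fun h => ⟨h, hz⟩)
  have hk : LocCoh.CdLE S (a ⊓ b) s.card :=
    HLVTLib.cdLE_congr (PrimeSpectrum.zeroLocus_eq_iff.1 hunion.symm) (S0326.result S s)
  have hab0 : a ⊔ b ≠ ⊤ := fun h => (maximalIdeal.isMaximal S).ne_top
    (top_le_iff.1 (h.ge.trans (sup_le (le_maximalIdeal ha) (le_maximalIdeal hb))))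
  have hdim : ringKrullDim (S ⧸ (a ⊔ b)) ≤ ((0 : ℕ) : WithBot ℕ∞) := by
    obtain ⟨p, hp, hle, hpd⟩ := HLVTLib.exists_prime_dim hab0
    have hpm : p = maximalIdeal S := by
      by_contra hpm
      have h1 : (⟨p, hp⟩ : PrimeSpectrum S) ∈ PrimeSpectrum.zeroLocus (a : Set S) := le_sup_left.trans hle
      have h2 : (⟨p, hp⟩ : PrimeSpectrum S) ∈ PrimeSpectrum.zeroLocus (b : Set S) := le_sup_right.trans hle
      rw [hVa] at h1
      rw [hVb] at h2
      exact hcon ⟨⟨p, hp⟩, ⟨h1.2, fun h => hpm (congrArg PrimeSpectrum.asIdeal h)⟩, h1.1, h2.1⟩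
    rw [← hpd, hpm]
    letI := Ideal.Quotient.field (maximalIdeal S)
    rw [ringKrullDim_eq_zero_of_field, Nat.cast_zero]
  have hpos : ∀ (c : Ideal S) (z : PrimeSpectrum S), c ≤ z.asIdeal → z ≠ closedPoint S →
      ((0 : ℕ) : WithBot ℕ∞) < ringKrullDim (S ⧸ c) := fun c z hcz hz => by
    refine lt_of_not_ge fun hle => hz (PrimeSpectrum.ext (le_antisymm (le_maximalIdeal z.2.ne_top) ?_))
    show maximalIdeal S ≤ z.asIdeal
    rw [← HLVTLib.radical_eq_of_dim_le_zero (fun h => z.2.ne_top (top_le_iff.1 (h ▸ hcz)))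
      (hle.trans_eq Nat.cast_zero)]
    exact z.2.radical_le_iff.2 hcz
  have := HLVTLib.dim_le_domain hd 0 s.card a b ha hb hdim (hpos a x hxa hxT.2) (hpos b y hyb hyT.2) hk
  omega

/-- A quotient of a complete local domain of dimension `d` by at most `d - 2` elements has connected
punctured spectrum. -/
theorem pconn_of_surjective {S : Type u} [CommRing S] [IsDomain S] [IsNoetherianRing S] [IsLocalRing S]
    [IsAdicComplete (maximalIdeal S) S] {d : ℕ} (hd : ringKrullDim S = d) (s : Finset S)
    (hs : s.card + 2 ≤ d) {R : Type u} [CommRing R] [IsLocalRing R] (q : S →+* R)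
    (hq : Function.Surjective q) (hker : RingHom.ker q = Ideal.span (s : Set S)) : PConn R := by
  have hI : Ideal.span (s : Set S) ≠ ⊤ := hker ▸ RingHom.ker_ne_top q
  have hemb := (PrimeSpectrum.isClosedEmbedding_comap_of_surjective _ q hq).isEmbedding
  haveI : IsLocalHom q := IsLocalHom.of_surjective q hq
  have him : PrimeSpectrum.comap q '' ({closedPoint R}ᶜ) =
      PrimeSpectrum.zeroLocus (s : Set S) \ {closedPoint S} := by
    rw [Set.image_compl_eq_range_sdiff_image hemb.injective, Set.image_singleton,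
      IsLocalRing.comap_closedPoint, range_comap_of_surjective _ _ hq, hker, PrimeSpectrum.zeroLocus_span]
  have h := isConnected_zeroLocus_diff S hd s hI hs
  rw [← him] at h
  exact ⟨Set.image_nonempty.1 h.nonempty, hemb.isInducing.isPreconnected_image.1 h.isPreconnected⟩

end Groth.Agent.PuncConnLib
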