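import Groth.Agent.PuncConnLib.Basic
import Groth.Agent.FiniteCompleteLib.Basic
import Groth.Agent.S0558
import Groth.Agent.GrSegreLib.Dim
import Mathlib

/-! The local rings of a finite étale algebra over a local ring of virtual dimension at least two have
connected punctured spectra. -/

set_option autoImplicit false
universe u

open IsLocalRing Polynomial

noncomputable section

namespace Groth.Agent.PuncConnLib

/-- Lifting a monic polynomial with maximal extended maximal ideal to a complete regular local ring. -/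
theorem pconn_adjoinRoot {S : Type u} [CommRing S] [IsRegularLocalRing S]
    [IsAdicComplete (maximalIdeal S) S] {d : ℕ} (hd : ringKrullDim S = d) (s : Finset S)
    (hs : s.card + 2 ≤ d) {R : Type u} [CommRing R] [IsLocalRing R] (π : S →+* R)
    (hπ : Function.Surjective π) (hker : RingHom.ker π = Ideal.span (s : Set S))
    (g : R[X]) (hg : g.Monic) (hdeg : g.natDegree ≠ 0) [IsLocalRing (AdjoinRoot g)]
    (hmax : maximalIdeal (AdjoinRoot g) = (maximalIdeal R).map (AdjoinRoot.of g)) :
    PConn (AdjoinRoot g) := by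
  classical
  haveI : IsLocalHom π := IsLocalHom.of_surjective π hπ
  obtain ⟨F, hFg, hFdeg, hF⟩ := lifts_and_natDegree_eq_and_monic
    (show g ∈ Polynomial.lifts π by
      rw [lifts_iff_coeff_lifts]
      exact fun n => hπ _) hg
  subst hFg
  haveI : Module.Finite S (AdjoinRoot F) := hF.finite_adjoinRoot
  haveI : Module.Free S (AdjoinRoot F) := hF.free_adjoinRoot
  haveI : IsNoetherianRing (AdjoinRoot F) := IsNoetherianRing.of_finite S (AdjoinRoot F)
  have hFdeg' : F.natDegree ≠ 0 := by omega
  let q : AdjoinRoot F →+* AdjoinRoot (F.map π) :=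
    AdjoinRoot.lift ((AdjoinRoot.of (F.map π)).comp π) (AdjoinRoot.root (F.map π))
      (by rw [← Polynomial.eval₂_map]; exact AdjoinRoot.eval₂_root _)
  have hqmk : ∀ p : S[X], q (AdjoinRoot.mk F p) = AdjoinRoot.mk (F.map π) (p.map π) := fun p => by
    show AdjoinRoot.lift _ _ _ (AdjoinRoot.mk F p) = _
    rw [AdjoinRoot.lift_mk, ← Polynomial.eval₂_map, ← AdjoinRoot.algebraMap_eq, ← Polynomial.aeval_def,
      AdjoinRoot.aeval_eq]
  have hqof : ∀ x : S, q (AdjoinRoot.of F x) = AdjoinRoot.of (F.map π) (π x) := fun x => by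
    have := hqmk (Polynomial.C x)
    rwa [AdjoinRoot.mk_C, Polynomial.map_C, AdjoinRoot.mk_C] at this
  have hq : Function.Surjective q := fun z => by
    obtain ⟨p, rfl⟩ := AdjoinRoot.mk_surjective z
    obtain ⟨P, rfl⟩ := Polynomial.map_surjective π hπ p
    exact ⟨_, hqmk P⟩
  have hkq : RingHom.ker q = Ideal.span ((s.image (AdjoinRoot.of F) : Finset (AdjoinRoot F)) : Set _) := by
    rw [Finset.coe_image, ← Ideal.map_span, ← hker]
    refine le_antisymm (fun z hz => ?_) (Ideal.map_le_iff_le_comap.2 fun x hx => ?_)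
    · obtain ⟨p, rfl⟩ := AdjoinRoot.mk_surjective z
      rw [RingHom.mem_ker, hqmk, AdjoinRoot.mk_eq_zero] at hz
      obtain ⟨h, hh⟩ := hz
      obtain ⟨H, rfl⟩ := Polynomial.map_surjective π hπ h
      have h0 : p - F * H ∈ RingHom.ker (Polynomial.mapRingHom π) := by
        rw [RingHom.mem_ker, map_sub, map_mul, Polynomial.coe_mapRingHom, hh, sub_self]
      rw [Polynomial.ker_mapRingHom] at h0
      have h1 := Ideal.mem_map_of_mem (AdjoinRoot.mk F) h0
      rw [Ideal.map_map, map_sub, map_mul, AdjoinRoot.mk_self, zero_mul, sub_zero] at h1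
      exact h1
    · show q (AdjoinRoot.of F x) = 0
      rw [hqof, (RingHom.mem_ker).1 hx, map_zero]
  haveI : Algebra.IsIntegral S (AdjoinRoot F) := Algebra.IsIntegral.of_finite S _
  have hkle : RingHom.ker q ≤ (maximalIdeal S).map (AdjoinRoot.of F) := by
    rw [hkq, Finset.coe_image, ← Ideal.map_span, ← hker]
    exact Ideal.map_mono (le_maximalIdeal (RingHom.ker_ne_top π))
  have hmS : (maximalIdeal S).map (AdjoinRoot.of F) = (maximalIdeal (AdjoinRoot (F.map π))).comap q := by
    have h1 : ((maximalIdeal S).map (AdjoinRoot.of F)).map q = maximalIdeal (AdjoinRoot (F.map π)) := by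
      rw [hmax, Ideal.map_map, ← IsLocalRing.map_maximalIdeal_of_surjective π hπ, Ideal.map_map]
      congr 1
      ext x
      exact hqof x
    rw [← h1, Ideal.comap_map_of_surjective' _ hq]
    exact (sup_eq_left.2 hkle).symm
  haveI hmmax : ((maximalIdeal S).map (AdjoinRoot.of F)).IsMaximal :=
    hmS ▸ Ideal.comap_isMaximal_of_surjective q hq
  haveI : IsLocalRing (AdjoinRoot F) := IsLocalRing.of_unique_max_ideal ⟨_, hmmax, fun M hM => by
    refine (hmmax.eq_of_le hM.ne_top ?_).symm
    haveI := hM
    refine Ideal.map_le_iff_le_comap.2 (le_of_eq ?_)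
    exact (IsLocalRing.eq_maximalIdeal (Ideal.isMaximal_comap_of_isIntegral_of_isMaximal
      (R := S) M)).symm⟩
  have hm' : maximalIdeal (AdjoinRoot F) = (maximalIdeal S).map (AdjoinRoot.of F) := (eq_maximalIdeal hmmax).symm
  have hinj : Function.Injective (algebraMap S (AdjoinRoot F)) := FaithfulSMul.algebraMap_injective _ _
  have hd' : ringKrullDim (AdjoinRoot F) = d :=
    (GrSegreLib.ringKrullDim_eq_of_integral_injective _ hinj (fun x => Algebra.IsIntegral.isIntegral x)).symm.trans hd
  haveI : IsRegularLocalRing (AdjoinRoot F) := by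
    refine IsRegularLocalRing.of_spanFinrank_maximalIdeal_le _ ?_
    rw [hd', hm']
    have h1 := ((isRegularLocalRing_iff S).1 inferInstance).trans hd
    refine le_trans ?_ h1.le
    obtain ⟨G, hGcard, hG⟩ := Submodule.FG.exists_span_set_encard_eq_spanFinrank (maximalIdeal S).fg_of_isNoetherianRing
    have hGfin : G.Finite := Set.finite_of_encard_eq_coe hGcard
    have hGn : G.ncard = (maximalIdeal S).spanFinrank := by rw [Set.ncard, hGcard, ENat.toNat_coe]
    have h2 : ((maximalIdeal S).map (AdjoinRoot.of F)).spanFinrank ≤ G.ncard := by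
      rw [← hG, Ideal.submodule_span_eq, Ideal.map_span]
      exact (Submodule.spanFinrank_span_le_ncard_of_finite (hGfin.image _)).trans (Set.ncard_image_le hGfin)
    exact_mod_cast h2.trans hGn.le
  haveI : IsDomain (AdjoinRoot F) := S0558.result _
  haveI : IsAdicComplete (maximalIdeal (AdjoinRoot F)) (AdjoinRoot F) :=
    FiniteCompleteLib.isAdicComplete_maximalIdeal S (AdjoinRoot F)
  refine pconn_of_surjective hd' (s.image (AdjoinRoot.of F)) ?_ q hq hkq
  exact (Nat.add_le_add_right Finset.card_image_le 2).trans hs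

/-- The local rings of a finite étale algebra over `A` have connected punctured spectra, when a flat
local `A`-algebra with trivial closed fibre is a quotient of a complete regular local ring of dimension `d`
by `d - 2` elements. -/
theorem pconn_localization {S : Type u} [CommRing S] [IsRegularLocalRing S]
    [IsAdicComplete (maximalIdeal S) S] {d : ℕ} (hd : ringKrullDim S = d) (s : Finset S)
    (hs : s.card + 2 ≤ d) {A : Type u} [CommRing A] [IsLocalRing A]
    {R : Type u} [CommRing R] [IsLocalRing R] [Algebra A R] [Module.Flat A R]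
    (hmR : maximalIdeal R = (maximalIdeal A).map (algebraMap A R))
    (hres : ∀ r : R, ∃ a : A, r - algebraMap A R a ∈ maximalIdeal R)
    (π : S →+* R) (hπ : Function.Surjective π) (hker : RingHom.ker π = Ideal.span (s : Set S))
    (B : Type u) [CommRing B] [Algebra A B] [Module.Finite A B] [Algebra.Etale A B]
    (n : Ideal B) [n.IsMaximal] : PConn (Localization.AtPrime n) := by
  classical
  haveI : IsNoetherianRing R := isNoetherianRing_of_surjective S R π hπ
  haveI : IsAdicComplete (maximalIdeal R) R := by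
    letI := π.toAlgebra
    haveI : Module.Finite S R := Module.Finite.of_surjective (Algebra.linearMap S R) hπ
    exact FiniteCompleteLib.isAdicComplete_maximalIdeal S R
  haveI : Algebra.IsIntegral A B := Algebra.IsIntegral.of_finite A B
  haveI hlo : n.LiesOver (maximalIdeal A) :=
    ⟨(IsLocalRing.eq_maximalIdeal (Ideal.isMaximal_comap_of_isIntegral_of_isMaximal (R := A) n)).symm⟩
  letI := Ideal.Quotient.field n
  letI := Ideal.Quotient.field (maximalIdeal A)
  haveI : Module.Finite (A ⧸ maximalIdeal A) (B ⧸ n) := Module.Finite.of_restrictScalars_finite A _ _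
  haveI : Algebra.FormallyUnramified A (B ⧸ n) :=
    Algebra.FormallyUnramified.comp A B (B ⧸ n)
  haveI : Algebra.FormallyUnramified (A ⧸ maximalIdeal A) (B ⧸ n) :=
    Algebra.FormallyUnramified.of_restrictScalars A (A ⧸ maximalIdeal A) (B ⧸ n)
  haveI : Algebra.IsSeparable (A ⧸ maximalIdeal A) (B ⧸ n) :=
    Algebra.FormallyUnramified.isSeparable _ _
  let pb := Field.powerBasisOfFiniteOfSeparable (A ⧸ maximalIdeal A) (B ⧸ n)
  obtain ⟨f, hf, hfdeg, hfm⟩ := lifts_and_natDegree_eq_and_monic
    (show minpoly (A ⧸ maximalIdeal A) pb.gen ∈ Polynomial.lifts (algebraMap A (A ⧸ maximalIdeal A)) by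
      rw [lifts_iff_coeff_lifts]
      exact fun k => Ideal.Quotient.mk_surjective _) (minpoly.monic pb.isIntegral_gen)
  let g := f.map (algebraMap A R)
  have hg : g.Monic := hfm.map _
  have hgdeg : g.natDegree ≠ 0 := by
    rw [hfm.natDegree_map, hfdeg]
    exact (minpoly.natDegree_pos pb.isIntegral_gen).ne'
  let C := AdjoinRoot g
  haveI : Module.Finite R C := hg.finite_adjoinRoot
  haveI : Module.Free R C := hg.free_adjoinRoot
  haveI : Module.Flat A C := Module.Flat.trans A R C
  haveI : Algebra.IsIntegral R C := Algebra.IsIntegral.of_finite R C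
  have hinj : Function.Injective (algebraMap R C) := (injective_iff_map_eq_zero _).2 fun r hr => by
    rw [AdjoinRoot.algebraMap_eq, ← AdjoinRoot.mk_C, AdjoinRoot.mk_eq_zero] at hr
    by_contra hr0
    exact hg.not_dvd_of_natDegree_lt (Polynomial.C_ne_zero.2 hr0) (by rw [natDegree_C]; omega) hr
  let mC := (maximalIdeal A).map (algebraMap A C)
  have hmC : mC = (maximalIdeal R).map (algebraMap R C) := by
    show (maximalIdeal A).map (algebraMap A C) = _
    rw [hmR, Ideal.map_map, IsScalarTower.algebraMap_eq A R C]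
  have hmCtop : mC ≠ ⊤ := by
    obtain ⟨M, hM, hMc⟩ := Ideal.exists_ideal_over_maximal_of_isIntegral (maximalIdeal R)
      (S := C) (by rw [(RingHom.injective_iff_ker_eq_bot _).1 hinj]; exact bot_le)
    refine fun h => hM.ne_top (top_le_iff.1 (h.ge.trans ?_))
    rw [hmC]
    exact Ideal.map_le_iff_le_comap.2 hMc.ge
  haveI : Nontrivial (C ⧸ mC) := Ideal.Quotient.nontrivial_iff.2 hmCtop
  let ρ : C ⧸ mC := Ideal.Quotient.mk mC (AdjoinRoot.root g)
  have hρ : aeval ρ (minpoly (A ⧸ maximalIdeal A) pb.gen) = 0 := by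
    rw [← hf, aeval_map_algebraMap, show ρ = Ideal.Quotient.mkₐ A mC (AdjoinRoot.root g) from rfl,
      aeval_algHom_apply, ← aeval_map_algebraMap R, AdjoinRoot.aeval_eq, AdjoinRoot.mk_self, map_zero]
  let L : B ⧸ n →ₐ[A ⧸ maximalIdeal A] C ⧸ mC := pb.lift ρ hρ
  have hL : Function.Surjective L := fun z => by
    obtain ⟨c, rfl⟩ := Ideal.Quotient.mk_surjective z
    induction c using AdjoinRoot.induction_on with
    | _ p =>
      induction p using Polynomial.induction_on with
      | C r =>
        obtain ⟨a, ha⟩ := hres r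
        refine ⟨algebraMap (A ⧸ maximalIdeal A) (B ⧸ n) (Ideal.Quotient.mk _ a), ?_⟩
        rw [AlgHom.commutes]
        show Ideal.Quotient.mk mC (algebraMap A C a) = Ideal.Quotient.mk mC (algebraMap R C r)
        refine (Ideal.Quotient.eq.2 ?_).symm
        rw [IsScalarTower.algebraMap_apply A R C, ← map_sub, hmC]
        exact Ideal.mem_map_of_mem _ ha
      | add p q hp hq =>
        obtain ⟨x, hx⟩ := hp
        obtain ⟨y, hy⟩ := hq
        exact ⟨x + y, by rw [map_add, hx, hy, map_add, map_add]⟩
      | monomial k r hk =>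
        obtain ⟨x, hx⟩ := hk
        refine ⟨x * pb.gen, ?_⟩
        rw [map_mul, hx, PowerBasis.lift_gen, pow_succ, ← mul_assoc, map_mul (AdjoinRoot.mk g) _ Polynomial.X,
          AdjoinRoot.mk_X]
        exact (map_mul _ _ _).symm
  have hLbij : Function.Bijective L := ⟨L.toRingHom.injective, hL⟩
  haveI hmCmax : mC.IsMaximal :=
    Ideal.Quotient.maximal_of_isField _
      ((RingEquiv.ofBijective L.toRingHom hLbij).toMulEquiv.symm.isField (Field.toIsField _))
  haveI : IsLocalRing C := IsLocalRing.of_unique_max_ideal ⟨mC, hmCmax, fun M hM => by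
    refine (hmCmax.eq_of_le hM.ne_top ?_).symm
    haveI := hM
    rw [hmC]
    refine Ideal.map_le_iff_le_comap.2 (le_of_eq ?_)
    exact (IsLocalRing.eq_maximalIdeal (Ideal.isMaximal_comap_of_isIntegral_of_isMaximal
      (R := R) M)).symm⟩
  have hmax : maximalIdeal C = mC := (eq_maximalIdeal hmCmax).symm
  haveI : IsAdicComplete mC C := hmax ▸ FiniteCompleteLib.isAdicComplete_maximalIdeal R C
  have hC : PConn C := pconn_adjoinRoot hd s hs π hπ hker g hg hgdeg (hmax.trans hmC)
  obtain ⟨h, hh⟩ := Algebra.FormallySmooth.exists_mkₐ_comp_eq_of_isAdicComplete (R := A) (A := B)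
    (I := mC) ((L.restrictScalars A).comp (Ideal.Quotient.mkₐ A n))
  have hhn : ∀ b, h b ∈ mC ↔ b ∈ n := fun b => by
    rw [← Ideal.Quotient.eq_zero_iff_mem, ← Ideal.Quotient.eq_zero_iff_mem (I := n)]
    have := DFunLike.congr_fun hh b
    rw [AlgHom.comp_apply, Ideal.Quotient.mkₐ_eq_mk] at this
    rw [this]
    exact map_eq_zero_iff L hLbij.1
  letI : Algebra B C := h.toRingHom.toAlgebra
  haveI : IsScalarTower A B C := IsScalarTower.of_algHom h
  haveI : Module.Flat B C := Algebra.FormallyUnramified.flat_of_restrictScalars (R := A) (S := B) (M := C)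
  have hunit : ∀ y : n.primeCompl, IsUnit (algebraMap B C y) := fun y => by
    by_contra hu
    refine y.2 ((hhn y).1 ?_)
    rw [← hmax]
    exact hu
  letI : Algebra (Localization.AtPrime n) C := (IsLocalization.lift (M := n.primeCompl) hunit).toAlgebra
  haveI : IsScalarTower B (Localization.AtPrime n) C :=
    IsScalarTower.of_algebraMap_eq fun b => (IsLocalization.lift_eq hunit b).symm
  haveI : Module.Flat (Localization.AtPrime n) C :=
    (Module.flat_iff_of_isLocalization (Localization.AtPrime n) n.primeCompl C).2 inferInstance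
  have hnC : maximalIdeal C ≤ (maximalIdeal (Localization.AtPrime n)).map (algebraMap (Localization.AtPrime n) C) := by
    rw [hmax, ← Localization.AtPrime.map_eq_maximalIdeal, Ideal.map_map, ← IsScalarTower.algebraMap_eq]
    refine Ideal.map_le_iff_le_comap.2 fun a ha => ?_
    rw [Ideal.mem_comap, IsScalarTower.algebraMap_apply A B C]
    exact Ideal.mem_map_of_mem _ (hlo.over.le ha)
  haveI : IsLocalHom (algebraMap (Localization.AtPrime n) C) := by
    refine ((local_hom_TFAE _).out 0 2).mpr ?_
    rw [← Localization.AtPrime.map_eq_maximalIdeal, Ideal.map_map, ← IsScalarTower.algebraMap_eq, hmax]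
    exact Ideal.map_le_iff_le_comap.2 fun b hb => (hhn b).2 hb
  haveI : Module.FaithfullyFlat (Localization.AtPrime n) C := Module.FaithfullyFlat.of_flat_of_isLocalHom
  exact hC.of_hom _ PrimeSpectrum.comap_surjective_of_faithfullyFlat hnC

end Groth.Agent.PuncConnLib
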