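import Groth.Agent.PuncConnLib.CompleteLift
import Groth.Agent.FEtLib.Restrict

/-! Clopens of finite covers of punctured spectra extend. -/

set_option autoImplicit false
universe u

open CategoryTheory CategoryTheory.Limits AlgebraicGeometry TopologicalSpace IsLocalRing

noncomputable section

namespace Groth.Agent.PuncConnLib

/-- A relative clopen extends if the points outside have connected punctured generizations. -/
theorem exists_clopen_extend {T : Type u} [TopologicalSpace T] {W : Set T}
    (hgen : ∀ V : Set T, IsOpen V → ∀ x ∈ closure V, ∃ y ∈ V, y ⤳ x)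
    (hconn : ∀ x, x ∉ W → IsConnected {y | y ∈ W ∧ y ⤳ x})
    {V V' : Set T} (hV : IsOpen V) (hV' : IsOpen V') (hdisj : Disjoint V V') (hVV : V ∪ V' = W) :
    IsClopen (closure V) ∧ closure V ∩ W = V := by
  have hWc : W ∩ closure V = V := by
    refine subset_antisymm (fun x hx => ?_) fun x hx => ⟨hVV ▸ Or.inl hx, subset_closure hx⟩
    rcases (hVV ▸ hx.1 : x ∈ V ∪ V') with h | h
    · exact h
    · exact absurd hx.2 (Set.disjoint_left.1 (hdisj.symm.closure_right hV') h)
  have hcov : closure V ∪ closure V' = Set.univ := by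
    rw [← closure_union, hVV, Set.eq_univ_iff_forall]
    intro x
    by_cases hx : x ∈ W
    · exact subset_closure hx
    · obtain ⟨y, hyW, hyx⟩ := (hconn x hx).nonempty
      exact hyx.mem_closed isClosed_closure (subset_closure hyW)
  have hd2 : Disjoint (closure V) (closure V') := by
    refine Set.disjoint_left.2 fun x hx hx' => ?_
    by_cases hxW : x ∈ W
    · have h := hWc.le ⟨hxW, hx⟩
      exact Set.disjoint_left.1 (hdisj.closure_right hV) h hx'
    · obtain ⟨y, hy, hyx⟩ := hgen V hV x hx
      obtain ⟨y', hy', hyx'⟩ := hgen V' hV' x hx'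
      obtain ⟨z, -, hz, hz'⟩ := (hconn x hxW).isPreconnected V V' hV hV' (fun z hz => hVV ▸ hz.1)
        ⟨y, ⟨hVV ▸ Or.inl hy, hyx⟩, hy⟩ ⟨y', ⟨hVV ▸ Or.inr hy', hyx'⟩, hy'⟩
      exact Set.disjoint_left.1 hdisj hz hz'
  refine ⟨⟨isClosed_closure, ?_⟩, by rw [Set.inter_comm]; exact hWc⟩
  rw [show closure V = (closure V')ᶜ from
    (IsCompl.compl_eq (IsCompl.symm ⟨hd2, codisjoint_iff.2 hcov⟩)).symm]
  exact isClosed_closure.isOpen_compl

/-- In a noetherian spectrum, a point in the closure of an open specializes from a point of it. -/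
theorem exists_specializes_of_mem_closure {B : Type u} [CommRing B] [IsNoetherianRing B]
    (V : Set (PrimeSpectrum B)) (hV : IsOpen V) (x : PrimeSpectrum B) (hx : x ∈ closure V) :
    ∃ y ∈ V, y ⤳ x := by
  let M : Set (PrimeSpectrum B) := {p | p.asIdeal ∈ minimalPrimes B ∧ p ∈ V}
  have hM : M.Finite := by
    refine Set.Finite.of_finite_image (f := PrimeSpectrum.asIdeal) ?_ (fun p _ q _ h => PrimeSpectrum.ext h)
    exact (minimalPrimes.finite_of_isNoetherianRing B).subset (Set.image_subset_iff.2 fun p hp => hp.1)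
  have hsub : closure V ⊆ ⋃ p ∈ M, closure ({p} : Set (PrimeSpectrum B)) := by
    refine closure_minimal (fun q hq => ?_) (hM.isClosed_biUnion fun _ _ => isClosed_closure)
    obtain ⟨P, hP, hPq⟩ := Ideal.exists_minimalPrimes_le (I := (⊥ : Ideal B)) (J := q.asIdeal) bot_le
    have hs : (⟨P, hP.1.1⟩ : PrimeSpectrum B) ⤳ q := (PrimeSpectrum.le_iff_specializes ⟨P, hP.1.1⟩ q).1 hPq
    exact Set.mem_biUnion (show (⟨P, hP.1.1⟩ : PrimeSpectrum B) ∈ M from ⟨hP, hs.mem_open hV hq⟩) hs.mem_closure
  obtain ⟨p, hp, hpx⟩ := Set.mem_iUnion₂.1 (hsub hx)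
  exact ⟨p, hp.2, specializes_iff_mem_closure.2 hpx⟩

variable {A : Type u} [CommRing A] [IsLocalRing A] {B : Type u} [CommRing B] [Algebra A B]

/-- The punctured generizations of a point over the closed point. -/
theorem isConnected_generizations [Algebra.IsIntegral A B] (x : PrimeSpectrum B) [x.asIdeal.IsMaximal]
    (h : PConn (Localization.AtPrime x.asIdeal)) :
    _root_.IsConnected {y : PrimeSpectrum B | PrimeSpectrum.comap (algebraMap A B) y ≠ closedPoint A ∧ y ⤳ x} := by
  have hemb := PrimeSpectrum.localization_comap_isEmbedding (Localization.AtPrime x.asIdeal) x.asIdeal.primeCompl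
  have hrange := PrimeSpectrum.localization_comap_range (Localization.AtPrime x.asIdeal) x.asIdeal.primeCompl
  have hcl : PrimeSpectrum.comap (algebraMap B (Localization.AtPrime x.asIdeal))
      (closedPoint (Localization.AtPrime x.asIdeal)) = x :=
    PrimeSpectrum.ext (Localization.AtPrime.under_maximalIdeal (R := B) (I := x.asIdeal))
  have hset : {y : PrimeSpectrum B | PrimeSpectrum.comap (algebraMap A B) y ≠ closedPoint A ∧ y ⤳ x} =
      PrimeSpectrum.comap (algebraMap B (Localization.AtPrime x.asIdeal)) ''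
        ({closedPoint (Localization.AtPrime x.asIdeal)}ᶜ) := by
    rw [Set.image_compl_eq_range_sdiff_image hemb.injective, Set.image_singleton, hcl, hrange]
    ext y
    simp only [Set.mem_ofPred_eq, Set.mem_sdiff, Set.mem_singleton_iff, Ideal.primeCompl]
    have hxm : PrimeSpectrum.comap (algebraMap A B) x = closedPoint A :=
      PrimeSpectrum.ext (IsLocalRing.eq_maximalIdeal
        (Ideal.isMaximal_comap_of_isIntegral_of_isMaximal (R := A) x.asIdeal))
    constructor
    · rintro ⟨h1, h2⟩
      refine ⟨?_, fun he => h1 (he ▸ hxm)⟩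
      exact Set.disjoint_left.2 fun b hb hby => hb ((PrimeSpectrum.le_iff_specializes y x).2 h2 hby)
    · rintro ⟨h1, h2⟩
      have hle : y.asIdeal ≤ x.asIdeal := fun b hb => by
        by_contra hbx
        exact Set.disjoint_left.1 h1 hbx hb
      refine ⟨fun hy => h2 (PrimeSpectrum.ext ?_), (PrimeSpectrum.le_iff_specializes y x).1 hle⟩
      haveI : (y.asIdeal.comap (algebraMap A B)).IsMaximal := by
        rw [show y.asIdeal.comap (algebraMap A B) = maximalIdeal A from congrArg PrimeSpectrum.asIdeal hy]
        exact maximalIdeal.isMaximal A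
      exact (Ideal.isMaximal_of_isIntegral_of_isMaximal_comap (R := A) y.asIdeal inferInstance).eq_of_le
        x.2.ne_top hle
  rw [hset]
  exact h.image _ (PrimeSpectrum.continuous_comap _).continuousOn

end Groth.Agent.PuncConnLib
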